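import Cfsg.Agent.Classical.UnitaryTrans

/-!
# Sets of isotropic vectors meeting every totally isotropic line through a member once more

Over the field with four elements let `S` be a set of isotropic vectors, closed under scalars and
under the third points of hyperbolic lines, such that for every member `x` each totally isotropic
line through `x` contains exactly one further point of `S`. In dimension at least seven no such set
is non-empty; in dimension five none is invariant under the isometries preserving its part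
orthogonal to a member.
-/

set_option autoImplicit false

namespace Cfsg.Agent.FischerThm.PSULow

open Module
open Cfsg.Agent.Classical.Herm

variable {F V : Type*} [Field F] [AddCommGroup V] [Module F V] {σ : F →+* F}
  {B : V →ₛₗ[σ] V →ₗ[F] F}

/-- The field with four elements, by a chosen generator. -/
structure Four (σ : F →+* F) (w : F) : Prop where
  two : (2 : F) = 0
  sq : w * w = w + 1
  conj : σ w = w + 1
  norm : ∀ a : F, a ≠ 0 → a * σ a = 1
  cases : ∀ a : F, a ≠ 0 → a = 1 ∨ a = w ∨ a = w + 1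

/-- The sets of isotropic vectors considered. -/
structure IsSec (B : V →ₛₗ[σ] V →ₗ[F] F) (S : Set V) : Prop where
  iso : ∀ v ∈ S, v ≠ 0 ∧ B v v = 0
  smul : ∀ v ∈ S, ∀ c : F, c ≠ 0 → c • v ∈ S
  third : ∀ u ∈ S, ∀ v ∈ S, B u v = 1 → u + v ∈ S
  lift : ∀ x ∈ S, ∀ r, B r r = 0 → B x r = 0 → (∀ c : F, r ≠ c • x) → ∃! γ : F, r + γ • x ∈ S

/-- The coefficient of `x` in the member of `S` over `r`. -/
noncomputable def coef (F : Type*) [Field F] [Module F V] (S : Set V) (x r : V) : F :=
  _root_.Classical.epsilon fun γ : F => r + γ • x ∈ S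

/-- Two orthonormal vectors orthogonal to `x`. -/
structure Pair2 (B : V →ₛₗ[σ] V →ₗ[F] F) (x a b : V) : Prop where
  aa : B a a = 1
  bb : B b b = 1
  ab : B a b = 0
  xa : B x a = 0
  xb : B x b = 0

/-- The value on `a` read off the line through `a` and `b`. -/
noncomputable def Hv (w : F) (S : Set V) (x a b : V) : F :=
  (w + 1) * coef F S x (a + b) + w * coef F S x (a + w • b)

variable [Finite F] [FiniteDimensional F V] (h : IsHerm B) {w : F} (f : Four σ w) {S : Set V} (hS : IsSec B S) {x : V} (hx : x ∈ S)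
include h

omit [Finite F] h in
theorem Four.ne_zero (f : Four σ w) : w ≠ 0 := fun h0 => by
  have := f.sq; rw [h0, zero_mul, zero_add] at this; exact zero_ne_one this

omit [Finite F] h in
theorem Four.succ_ne_zero (f : Four σ w) : w + 1 ≠ 0 := fun h0 =>
  f.ne_zero (mul_self_eq_zero.1 (f.sq.trans h0))

omit [Finite F] [FiniteDimensional F V] in
theorem pair_symm {a b : V} (p : Pair2 B x a b) : Pair2 B x b a :=
  ⟨p.bb, p.aa, (eq_zero_comm h).1 p.ab, p.xb, p.xa⟩

include f

omit [Finite F] [FiniteDimensional F V] in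
/-- A vector `a + c b` is admissible. -/
theorem line_ok {a b : V} (p : Pair2 B x a b) {c : F} (hc : c ≠ 0) :
    B (a + c • b) (a + c • b) = 0 ∧ B x (a + c • b) = 0 ∧ ∀ e : F, a + c • b ≠ e • x := by
  refine ⟨?_, ?_, fun e he => ?_⟩
  · simp [p.aa, p.bb, p.ab, (eq_zero_comm h).1 p.ab]
    linear_combination f.norm c hc + f.two
  · simp [p.xa, p.xb]
  · have := congrArg (B a) he
    simp [p.aa, p.ab, (eq_zero_comm h).1 p.xa] at this

include hS hx

omit [Finite F] [FiniteDimensional F V] f in
theorem coef_spec {r : V} (hr : B r r = 0) (hxr : B x r = 0) (hne : ∀ c : F, r ≠ c • x) :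
    r + coef F S x r • x ∈ S := by
  exact _root_.Classical.epsilon_spec (hS.lift x hx r hr hxr hne).exists

omit [Finite F] [FiniteDimensional F V] f in
theorem coef_eq {r : V} (hr : B r r = 0) (hxr : B x r = 0) (hne : ∀ c : F, r ≠ c • x) {γ : F}
    (hγ : r + γ • x ∈ S) : coef F S x r = γ :=
  (hS.lift x hx r hr hxr hne).unique (coef_spec h hS hx hr hxr hne) hγ

omit [Finite F] [FiniteDimensional F V] f in
theorem coef_smul {r : V} (hr : B r r = 0) (hxr : B x r = 0) (hne : ∀ c : F, r ≠ c • x) {c : F}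
    (hc : c ≠ 0) : coef F S x (c • r) = c * coef F S x r := by
  refine coef_eq h hS hx (by simp [hr]) (by simp [hxr]) (fun e he => hne (c⁻¹ * e) ?_) ?_
  · rw [mul_smul, ← he, inv_smul_smul₀ hc]
  · have := hS.smul _ (coef_spec h hS hx hr hxr hne) c hc
    rwa [smul_add, smul_smul] at this

omit [Finite F] [FiniteDimensional F V] f in
theorem coef_add {r s : V} (hr : B r r = 0) (hxr : B x r = 0) (hs : B s s = 0) (hxs : B x s = 0)
    (hrs : B r s = 1) : coef F S x (r + s) = coef F S x r + coef F S x s := by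
  have hxx := (hS.iso x hx).2
  have hrx := (eq_zero_comm h).1 hxr
  have hsx := (eq_zero_comm h).1 hxs
  have hsr : B s r = 1 := by rw [← h.symm, hrs, map_one]
  have hnr : ∀ c : F, r ≠ c • x := fun c hc => by
    rw [hc] at hsr; simp [hsx] at hsr
  have hns : ∀ c : F, s ≠ c • x := fun c hc => by
    rw [hc] at hrs; simp [hrx] at hrs
  have h3 := hS.third _ (coef_spec h hS hx hr hxr hnr) _ (coef_spec h hS hx hs hxs hns)
    (by simp [hxs, hrx, hrs, hxx])
  have hiso := (hS.iso _ h3).2
  refine coef_eq h hS hx ?_ (by simp [hxr, hxs]) (fun e he => ?_) ?_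
  · simpa [hxx, hrx, hsx, hxr, hxs] using hiso
  · have := congrArg (B r) he
    simp [hr, hrs, hrx] at this
  · rw [add_smul]
    convert h3 using 1
    abel

omit [Finite F] [FiniteDimensional F V] in
theorem coef_line {a b : V} (p : Pair2 B x a b) :
    (coef F S x (a + b) = Hv w S x a b + Hv w S x b a) ∧
    coef F S x (a + w • b) = Hv w S x a b + w * Hv w S x b a ∧
    coef F S x (a + (w + 1) • b) = Hv w S x a b + (w + 1) * Hv w S x b a := by
  have hba := (eq_zero_comm h).1 p.ab
  obtain ⟨u1, u2, u3⟩ := line_ok h f p f.ne_zero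
  obtain ⟨v1, v2, v3⟩ := line_ok h f p f.succ_ne_zero
  have hkey : coef F S x (a + b) =
      w * coef F S x (a + w • b) + (w + 1) * coef F S x (a + (w + 1) • b) := by
    rw [← coef_smul h hS hx u1 u2 u3 f.ne_zero, ← coef_smul h hS hx v1 v2 v3 f.succ_ne_zero,
      ← coef_add h hS hx (by rw [smul_self h, u1, mul_zero]) (by rw [map_smul, u2, smul_zero])
        (by rw [smul_self h, v1, mul_zero]) (by rw [map_smul, v2, smul_zero])]
    · congr 1
      rw [smul_add, smul_add, smul_smul, smul_smul]
      match_scalars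
      · linear_combination -(w * f.two)
      · linear_combination -2 * f.sq - (2 * w + 1) * f.two
    · simp [p.aa, p.bb, p.ab, hba, map_add, f.conj]
      grind [f.two, f.sq]
  have hflip : coef F S x (b + w • a) = w * coef F S x (a + (w + 1) • b) := by
    rw [← coef_smul h hS hx v1 v2 v3 f.ne_zero]
    congr 1
    match_scalars
    · linear_combination -f.sq - w * f.two
    · rfl
  have hcomm : coef F S x (b + a) = coef F S x (a + b) := by rw [add_comm]
  refine ⟨?_, ?_, ?_⟩ <;> simp only [Hv, hflip, hcomm, hkey] <;>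
    grind [f.two, f.sq]

omit [Finite F] [FiniteDimensional F V] in
theorem triangle {a b c : V} (p : Pair2 B x a b) (q : Pair2 B x a c) (hbc : B b c = 0) :
    Hv w S x a b = Hv w S x a c := by
  have r : Pair2 B x b c := ⟨p.bb, q.bb, hbc, p.xb, q.xb⟩
  have hba := (eq_zero_comm h).1 p.ab
  have key : ∀ e : F, e ≠ 0 →
      coef F S x (a + e • b) + coef F S x (a + e • c) = e * coef F S x (b + c) := by
    intro e he
    obtain ⟨u1, u2, u3⟩ := line_ok h f p he
    obtain ⟨v1, v2, v3⟩ := line_ok h f q he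
    obtain ⟨w1, w2, w3⟩ := line_ok h f r (one_ne_zero (α := F))
    rw [one_smul] at w1 w2 w3
    rw [← coef_smul h hS hx w1 w2 w3 he,
      ← coef_add h hS hx u1 u2 v1 v2 (by simp [p.aa, q.ab, hba, hbc])]
    congr 1
    match_scalars
    · linear_combination f.two
    all_goals ring
  have h1 := key 1 one_ne_zero
  have h2 := key w f.ne_zero
  rw [one_smul, one_smul, one_mul] at h1
  unfold Hv
  grind [f.two, f.sq]

omit [Finite F] [FiniteDimensional F V] hx in
/-- No such set in dimension at least seven. -/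
theorem large_false {e : Fin 5 → V} (he : IsON B e) (hex : ∀ i, B x (e i) = 0) (hx : x ∈ S) :
    False := by
  set b := e 1 + e 2 + e 3 with hb
  set c := e 1 + w • e 2 + (w + 1) • e 3 with hc
  have P : ∀ i j, i ≠ j → Pair2 B x (e i) (e j) := fun i j hij =>
    ⟨by rw [he, if_pos rfl], by rw [he, if_pos rfl], by rw [he, if_neg hij], hex i, hex j⟩
  have hxx := (hS.iso x hx).2
  have hbb : B b b = 1 := by
    simp [hb, he _ _]
    linear_combination f.two
  have hcc : B c c = 1 := by
    simp [hc, he _ _, f.conj]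
    grind [f.two, f.sq]
  have hbc : B b c = 0 := by
    simp [hb, hc, he _ _]
    linear_combination (w + 1) * f.two
  have hxb : B x b = 0 := by simp [hb, hex]
  have hxc : B x c = 0 := by simp [hc, hex]
  have h0b : B (e 0) b = 0 := by simp [hb, he _ _]
  have h4b : B (e 4) b = 0 := by simp [hb, he _ _]
  have h4c : B (e 4) c = 0 := by simp [hc, he _ _]
  have p0b : Pair2 B x (e 0) b := ⟨(P 0 1 (by decide)).aa, hbb, h0b, hex 0, hxb⟩
  have pb4 : Pair2 B x b (e 4) :=
    ⟨hbb, (P 4 1 (by decide)).aa, (eq_zero_comm h).1 h4b, hxb, hex 4⟩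
  have pbc : Pair2 B x b c := ⟨hbb, hcc, hbc, hxb, hxc⟩
  have hne : ∀ i j : Fin 5, i ≠ j → B (e i) (e j) = 0 := fun i j hij => by rw [he, if_neg hij]
  have t1 : Hv w S x (e 0) b = Hv w S x (e 0) (e 4) :=
    triangle h f hS hx p0b (P 0 4 (by decide)) ((eq_zero_comm h).1 h4b)
  have t2 : Hv w S x (e 0) (e 4) = Hv w S x (e 0) (e 1) :=
    triangle h f hS hx (P 0 4 (by decide)) (P 0 1 (by decide)) (hne 4 1 (by decide))
  have t3 : Hv w S x b (e 0) = Hv w S x b (e 4) :=
    triangle h f hS hx (pair_symm h p0b) pb4 (hne 0 4 (by decide))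
  have t4 : Hv w S x b (e 4) = Hv w S x b c := triangle h f hS hx pb4 pbc h4c
  have t5 : Hv w S x (e 1) (e 2) = Hv w S x (e 1) (e 0) :=
    triangle h f hS hx (P 1 2 (by decide)) (P 1 0 (by decide)) (hne 2 0 (by decide))
  have t6 : Hv w S x (e 2) (e 1) = Hv w S x (e 2) (e 3) :=
    triangle h f hS hx (P 2 1 (by decide)) (P 2 3 (by decide)) (hne 1 3 (by decide))
  obtain ⟨l0, -, -⟩ := coef_line h f hS hx p0b
  obtain ⟨l1, -, -⟩ := coef_line h f hS hx (P 0 1 (by decide))
  obtain ⟨l3, -, l4⟩ := coef_line h f hS hx (P 2 3 (by decide))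
  obtain ⟨-, -, l5⟩ := coef_line h f hS hx (P 1 2 (by decide))
  obtain ⟨u1, u2, u3⟩ := line_ok h f (P 2 3 (by decide)) f.succ_ne_zero
  obtain ⟨v1, v2, v3⟩ := line_ok h f (P 1 2 (by decide)) f.succ_ne_zero
  have e1 : coef F S x (b + c) = (w + 1) * coef F S x (e 2 + (w + 1) • e 3) := by
    rw [← coef_smul h hS hx u1 u2 u3 f.succ_ne_zero]
    congr 1
    rw [hb, hc]
    match_scalars
    all_goals grind [f.two, f.sq]
  have e2 : coef F S x (b + w • c) = (w + 1) * coef F S x (e 1 + (w + 1) • e 2) := by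
    rw [← coef_smul h hS hx v1 v2 v3 f.succ_ne_zero]
    congr 1
    rw [hb, hc]
    match_scalars
    all_goals grind [f.two, f.sq]
  have hsum : coef F S x (e 0 + b) = coef F S x (e 0 + e 1) + coef F S x (e 2 + e 3) := by
    rw [l0, l1, l3, t1, t2, t3, t4]
    show _ + ((w + 1) * coef F S x (b + c) + w * coef F S x (b + w • c)) = _
    rw [e1, e2, l4, l5, t5, t6]
    grind [f.two, f.sq]
  obtain ⟨y1, y2, y3⟩ := line_ok h f (P 0 1 (by decide)) (one_ne_zero (α := F))
  obtain ⟨r1, r2, r3⟩ := line_ok h f (P 2 3 (by decide)) (one_ne_zero (α := F))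
  obtain ⟨s1, s2, s3⟩ := line_ok h f p0b (one_ne_zero (α := F))
  rw [one_smul] at y1 y2 y3 r1 r2 r3 s1 s2 s3
  have hY := coef_spec h hS hx y1 y2 y3
  have hR := coef_spec h hS hx r1 r2 r3
  have hT := coef_spec h hS hx s1 s2 s3
  set Y := e 0 + e 1 + coef F S x (e 0 + e 1) • x with hYdef
  set R := e 2 + e 3 + coef F S x (e 2 + e 3) • x with hRdef
  have hT' : R + (1 : F) • Y ∈ S := by
    rw [one_smul]
    convert hT using 1
    rw [hsum, hb, hYdef, hRdef]
    match_scalars <;> ring
  have hex' : ∀ i, B (e i) x = 0 := fun i => (eq_zero_comm h).1 (hex i)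
  have := (hS.lift Y hY R (hS.iso R hR).2 (by simp [hYdef, hRdef, he _ _, hex, hex', hxx])
    fun k hk => by
      have := congrArg (B (e 2)) hk
      simp [hYdef, hRdef, he _ _, hex'] at this).unique (y₁ := (0 : F)) (y₂ := 1)
        (by rwa [zero_smul, add_zero]) hT'
  exact zero_ne_one this

omit hx in
/-- No invariant such set in dimension five. -/
theorem five_false {e : Fin 3 → V} (he : IsON B e) (hex : ∀ i, B x (e i) = 0) (hx : x ∈ S)
    (hspan : ∀ v, B x v = 0 → ∃ α : F, v = α • x + ∑ i, B (e i) v • e i)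
    (hc : ∀ e' : Fin 3 → V, IsON B e' → ∃ c' : V, B c' c' = 1 ∧ ∀ i, B (e' i) c' = 0)
    (hinv : ∀ g ∈ suG B, g x = x → (∀ v ∈ S, B x v = 0 → g v ∈ S) → ∀ v ∈ S, g v ∈ S) :
    False := by
  have hxx := (hS.iso x hx).2
  have hex' : ∀ i, B (e i) x = 0 := fun i => (eq_zero_comm h).1 (hex i)
  have P : ∀ i j, i ≠ j → Pair2 B x (e i) (e j) := fun i j hij =>
    ⟨by rw [he, if_pos rfl], by rw [he, if_pos rfl], by rw [he, if_neg hij], hex i, hex j⟩
  have hne : ∀ i j : Fin 3, i ≠ j → B (e i) (e j) = 0 := fun i j hij => by rw [he, if_neg hij]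
  set G : Fin 3 → F := fun i => Hv w S x (e i) (e (i + 1)) with hG
  have hGval : ∀ i j, i ≠ j → Hv w S x (e i) (e j) = G i := by
    intro i j hij
    rcases eq_or_ne j (i + 1) with rfl | hj
    · rfl
    · refine triangle h f hS hx (P i j hij) (P i (i + 1) ?_) (hne j (i + 1) hj)
      fin_cases i <;> decide
  set e' : Fin 3 → V := fun i => e i + G i • x with he'
  have hon : IsON B e' := fun i j => by simp [he', he _ _, hex, hex', hxx]
  have hex'' : ∀ i, B x (e' i) = 0 := fun i => by simp [he', hex, hxx]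
  have hline : ∀ i j, i ≠ j → ∀ a : F, a ≠ 0 → e' i + a • e' j ∈ S := by
    intro i j hij a ha
    obtain ⟨u1, u2, u3⟩ := line_ok h f (P i j hij) ha
    have h1 := coef_spec h hS hx u1 u2 u3
    obtain ⟨l1, lw, lw'⟩ := coef_line h f hS hx (P i j hij)
    rw [hGval i j hij, hGval j i hij.symm] at l1 lw lw'
    have h2 : coef F S x (e i + a • e j) = G i + a * G j := by
      rcases f.cases a ha with rfl | rfl | rfl
      · rw [one_smul, l1, one_mul]
      · exact lw
      · exact lw'
    rw [h2] at h1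
    convert h1 using 1
    simp only [he']
    match_scalars <;> ring
  have hW : ∀ v, v ≠ 0 → B v v = 0 → v = ∑ i, B (e' i) v • e' i → v ∈ S := by
    intro v hv0 hvv hv
    have hsum : B (e' 0) v * σ (B (e' 0) v) + B (e' 1) v * σ (B (e' 1) v) +
        B (e' 2) v * σ (B (e' 2) v) = 0 := by
      rw [hv] at hvv
      simp [hon _ _, Fin.sum_univ_three] at hvv
      linear_combination hvv
    rw [hv, Fin.sum_univ_three]
    have main : ∀ i j : Fin 3, i ≠ j → ∀ p q : F, p ≠ 0 → q ≠ 0 → p • e' i + q • e' j ∈ S := by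
      intro i j hij p q hp hq
      have := hS.smul _ (hline i j hij (p⁻¹ * q) (mul_ne_zero (inv_ne_zero hp) hq)) p hp
      rwa [smul_add, smul_smul, mul_inv_cancel_left₀ hp] at this
    have h3 : (1 : F) + 1 + 1 ≠ 0 := fun h0 => one_ne_zero (by linear_combination h0 - f.two)
    rcases eq_or_ne (B (e' 0) v) 0 with ha | ha <;> rcases eq_or_ne (B (e' 1) v) 0 with hb | hb <;>
      rcases eq_or_ne (B (e' 2) v) 0 with hd | hd
    all_goals simp only [ha, hb, hd, zero_smul, zero_mul, zero_add, add_zero, f.norm _,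
      one_ne_zero, ne_eq, not_false_eq_true] at hsum ⊢
    all_goals first
      | exact absurd (by rw [hv, Fin.sum_univ_three, ha, hb, hd]; simp) hv0
      | exact main _ _ (by decide) _ _ (by assumption) (by assumption)
      | exact absurd hsum h3
  set y := e' 0 + e' 1 with hy
  have hyy : B y y = 0 := by simp [hy, hon _ _]; linear_combination f.two
  have hay : B (e' 2) y = 0 := by simp [hy, hon _ _]
  have hd : w + σ w = -B (e' 2) (e' 2) := by
    rw [hon, if_pos rfl, f.conj]; linear_combination (w + 1) * f.two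
  set g := eichler h hyy hay w with hg
  have hxy : B y x = 0 := (eq_zero_comm h).1 (by simp [hy, hex''])
  have hgx : g x = x := by
    simp [hg, eichler_apply, hxy, (eq_zero_comm h).1 (hex'' 2)]
  have hmem := eichler_mem h hyy hay hd
  have hpres : ∀ v ∈ S, B x v = 0 → g v ∈ S := by
    intro v hv hxv
    obtain ⟨α, hα⟩ := hspan v hxv
    set z := ∑ i, B (e' i) v • e' i with hz
    have hcoef : ∀ i, B (e' i) v = B (e i) v := fun i => by simp [he', hxv]
    have hvz : v = (α - ∑ i, B (e i) v * G i) • x + z := by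
      conv_lhs => rw [hα]
      rw [hz]; simp only [hcoef]; simp only [he', Fin.sum_univ_three, smul_add, smul_smul]
      match_scalars <;> ring
    rcases eq_or_ne z 0 with hz0 | hz0
    · rw [hz0, add_zero] at hvz
      rw [hvz, map_smul, hgx, ← hvz]
      exact hv
    have hxz : B x z = 0 := by simp [hz, hex'']
    have hrep : z = ∑ i, B (e' i) z • e' i := by
      simp [hz, hon _ _, Fin.sum_univ_three]
    have hzz : B z z = 0 := by
      have := (hS.iso v hv).2
      rw [hvz] at this
      simpa [hxx, hxz, (eq_zero_comm h).1 hxz] using this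
    have hzS := hW z hz0 hzz hrep
    have hzne : ∀ e₀ : F, z ≠ e₀ • x := fun e₀ he₀ => by
      refine hz0 ?_
      rw [hrep, he₀]
      simp [(eq_zero_comm h).1 (hex'' _)]
    have h0 := (hS.lift x hx z hzz hxz hzne).unique (y₁ := α - ∑ i, B (e i) v * G i) (y₂ := 0)
      (by rw [add_comm, ← hvz]; exact hv) (by simpa using hzS)
    rw [hvz, h0, zero_smul, zero_add]
    refine hW _ (by simpa using hz0) (by rw [hmem.1]; exact hzz) ?_
    rw [hg, eichler_apply, hy]
    conv_lhs => rw [hrep]
    simp [Fin.sum_univ_three, hon _ _]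
    match_scalars <;> ring
  have hinv' := hinv g hmem hgx hpres
  obtain ⟨c', hc', hc''⟩ := hc e' hon
  set r := c' + e' 2 with hr
  have hrr : B r r = 0 := by
    simp [hr, hc', hon _ _, hc'', (eq_zero_comm h).1 (hc'' 2)]; linear_combination f.two
  have hyr : B y r = 0 := by simp [hy, hr, hc'', hon _ _]
  have hyne : ∀ k : F, r ≠ k • y := fun k hk => by
    have := congrArg (B (e' 2)) hk
    simp [hr, hc'', hon _ _, hy] at this
  have hyS : y ∈ S := by simpa [hy] using hline 0 1 (by decide) 1 one_ne_zero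
  obtain ⟨γ, hγ, huniq⟩ := hS.lift y hyS r hrr hyr hyne
  have hmove := hinv' _ hγ
  have hgr : g (r + γ • y) = r + (γ + 1) • y := by
    have hqr : B (e' 2) r = 1 := by simp [hr, hc'', hon _ _]
    have h1 : g y = y := by simp [hg, eichler_apply, hyy, hay]
    rw [map_add, map_smul, h1, hg, eichler_apply, hyr, hqr]
    match_scalars <;> grind [f.two]
  rw [hgr] at hmove
  have := huniq _ hmove
  exact one_ne_zero (α := F) (by linear_combination this)

end Cfsg.Agent.FischerThm.PSULow
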