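import Cfsg.Agent.Classical.HermSimple
import Cfsg.Agent.FischerThm.PSULow.Vec

/-!
# Orthonormal frames at an isotropic vector, and detecting vectors by isotropic ones
-/

set_option autoImplicit false

namespace Cfsg.Agent.FischerThm.PSULow

open Module
open Cfsg.Agent.Classical.Herm

variable {F V : Type*} [Field F] [Finite F] [AddCommGroup V] [Module F V] [FiniteDimensional F V]
  {σ : F →+* F} {B : V →ₛₗ[σ] V →ₗ[F] F} (h : IsHerm B) {w : F} (f : Four σ w)
include h

omit [Finite F] in
/-- Coordinates in a full orthonormal family. -/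
theorem on_repr {k : ℕ} {b : Fin k → V} (hb : IsON B b) (hk : k = finrank F V) (v : V) :
    v = ∑ i, B (b i) v • b i := by
  rcases Nat.eq_zero_or_pos k with h0 | h0
  · subst h0
    have : Subsingleton V := Module.finrank_zero_iff.1 hk.symm
    exact Subsingleton.elim _ _
  have : Nonempty (Fin k) := ⟨⟨0, h0⟩⟩
  let e := basisOfLinearIndependentOfCardEqFinrank (hb.linearIndependent h) (by simp [hk])
  have he : ∀ i, e i = b i := fun i => by simp [e]
  have hc : ∀ i, B (b i) v = e.repr v i := fun i => by
    conv_lhs => rw [← e.sum_repr v]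
    simp [he, hb i, map_sum]
  simp_rw [hc, ← he]
  exact (e.sum_repr v).symm

include f in
omit [Finite F] [FiniteDimensional F V] in
theorem on_hyperbolic {p q : V} (hp : B p p = 0) (hq : B q q = 0) (hpq : B p q = 1) :
    IsON B ![w • p + q, p + (w • p + q)] := by
  have hqp : B q p = 1 := by rw [← h.symm, hpq, map_one]
  intro i j
  fin_cases i <;> fin_cases j <;> simp [hp, hq, hpq, hqp, f.conj] <;> grind [f.two, f.sq]

include f in
/-- A frame of an isotropic vector. -/
theorem exists_frame {x : V} (hx0 : x ≠ 0) (hxx : B x x = 0) {k : ℕ}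
    (hk : 2 + k = finrank F V) :
    ∃ e : Fin k → V, IsON B e ∧ (∀ i, B x (e i) = 0) ∧
      ∀ v, B x v = 0 → ∃ α : F, v = α • x + ∑ i, B (e i) v • e i := by
  obtain ⟨s, hss, hxs⟩ := exists_hyp_partner h hx0 hxx
  have ha := on_hyperbolic h f hxx hss hxs
  obtain ⟨b, hb, hba⟩ := exists_extend h k hk ha
  have h0 : b (Fin.castAdd k 0) = w • x + s := hba 0
  have h1 : b (Fin.castAdd k 1) = x + (w • x + s) := hba 1
  have hx : x = b (Fin.castAdd k 1) - b (Fin.castAdd k 0) := by rw [h0, h1]; abel
  refine ⟨fun i => b (Fin.natAdd 2 i), fun i j => by rw [hb]; simp, fun i => ?_, fun v hv => ?_⟩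
  · rw [hx, map_sub, LinearMap.sub_apply, hb, hb, if_neg, if_neg, sub_zero] <;>
      (simp [Fin.ext_iff]; omega)
  · refine ⟨B (b (Fin.castAdd k 0)) v, ?_⟩
    have heq : B (b (Fin.castAdd k 1)) v = B (b (Fin.castAdd k 0)) v := by
      rw [hx, map_sub, LinearMap.sub_apply] at hv
      exact sub_eq_zero.1 hv
    conv_lhs => rw [on_repr h hb hk v, Fin.sum_univ_add, Fin.sum_univ_two, heq]
    congr 1
    rw [← smul_add]
    congr 1
    rw [h0, h1]
    match_scalars <;> grind [f.two]

omit [Finite F] [FiniteDimensional F V] in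
/-- A vector outside the span of two is separated from them by the form. -/
theorem exists_separate {p s u : V} (hu : ∀ α β : F, u ≠ α • s + β • p) :
    ∃ t, B p t = 0 ∧ B s t = 0 ∧ B u t = 1 := by
  obtain ⟨t, ht1, ht2, ht3⟩ : ∃ t, B p t = 0 ∧ B s t = 0 ∧ B u t ≠ 0 := by
    by_contra hc
    push Not at hc
    have hmem := mem_span_of_iInf_ker_le_ker (L := ![B p, B s]) (K := B u) (fun t ht => by
      simp only [Submodule.mem_iInf, LinearMap.mem_ker] at ht ⊢
      exact hc t (by simpa using ht 0) (by simpa using ht 1))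
    rw [Matrix.range_cons, Matrix.range_cons, Matrix.range_empty, Set.union_empty,
      Set.singleton_union, Submodule.mem_span_pair] at hmem
    obtain ⟨β, α, hab⟩ := hmem
    refine hu (σ α) (σ β) (sub_eq_zero.1 (h.nondeg _ fun y => ?_))
    have := LinearMap.congr_fun hab y
    simp only [LinearMap.add_apply, LinearMap.smul_apply, smul_eq_mul] at this
    simp [h.invol]
    linear_combination -this
  exact ⟨(B u t)⁻¹ • t, by simp [ht1], by simp [ht2], by simp [ht3]⟩

omit [Finite F] [FiniteDimensional F V] in
/-- A vector with the same isotropic orthogonal vectors as `s` inside the orthogonal of `p` lies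
on the line through `p` and `s`. -/
theorem mem_line_of_perp {p s u : V} (hs : B s s = 0) (hps : B p s = 0) (huu : B u u = 0)
    (hpu : B p u = 0) (hall : ∀ t, B t t = 0 → B p t = 0 → B s t = 0 → B u t = 0) :
    ∃ α β : F, u = α • s + β • p := by
  by_contra hc
  push Not at hc
  obtain ⟨t, ht1, ht2, ht3⟩ := exists_separate h hc
  have hus : B u s = 0 := hall s hs hps hs
  have hsu := (eq_zero_comm h).1 hus
  have htu : B t u = 1 := by rw [← h.symm, ht3, map_one]
  obtain ⟨c, hcc⟩ := exists_trace h.toIsInvol (a := -B t t) (by rw [map_neg, fix_self h])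
  refine absurd (hall (t + c • u) ?_ (by simp [ht1, hpu]) (by simp [ht2, hsu])) ?_
  · simp [huu, htu, ht3]
    linear_combination hcc
  · simp [ht3, huu]

include f in
/-- The isotropic vectors orthogonal to a hyperbolic pair have only that pair's plane as common
orthogonal. -/
theorem mem_plane_of_perp (hn : 4 ≤ finrank F V) {p q v : V} (hp : B p p = 0) (hq : B q q = 0)
    (hpq : B p q = 1) (hall : ∀ t, t ≠ 0 → B t t = 0 → B p t = 0 → B q t = 0 → B v t = 0) :
    ∃ α β : F, v = α • p + β • q := by
  have hqp : B q p = 1 := by rw [← h.symm, hpq, map_one]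
  set u := v - B q v • p - B p v • q with hu
  have hpu : B p u = 0 := by simp [hu, hp, hpq]
  have hqu : B q u = 0 := by simp [hu, hq, hqp]
  suffices u = 0 by
    exact ⟨B q v, B p v, sub_eq_zero.1 (by rw [← this, hu]; abel)⟩
  by_contra hu0
  -- vectors orthogonal to the plane pair with `u` as with `v`
  have hkey : ∀ t, B p t = 0 → B q t = 0 → B v t = B u t := fun t h1 h2 => by simp [hu, h1, h2]
  have hne : ∀ t, B t t = 0 → B p t = 0 → B q t = 0 → B u t = 0 := fun t h0 h1 h2 => by
    rcases eq_or_ne t 0 with rfl | ht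
    · simp
    · rw [← hkey t h1 h2]; exact hall t ht h0 h1 h2
  have hup := (eq_zero_comm h).1 hpu
  have huq := (eq_zero_comm h).1 hqu
  by_cases huu : B u u = 0
  · obtain ⟨y, hy⟩ := exists_pairing h hu0
    set t := y - B q y • p - B p y • q with ht
    have ht1 : B p t = 0 := by simp [ht, hp, hpq]
    have ht2 : B q t = 0 := by simp [ht, hq, hqp]
    have ht3 : B u t = 1 := by simp [ht, hup, huq, hy]
    have ht4 : B t u = 1 := by rw [← h.symm, ht3, map_one]
    obtain ⟨c, hc⟩ := exists_trace h.toIsInvol (a := -B t t) (by rw [map_neg, fix_self h])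
    have := hne (t + c • u) (by simp [huu, ht3, ht4]; linear_combination hc)
      (by simp [ht1, hpu]) (by simp [ht2, hqu])
    simp [huu, ht3] at this
  · obtain ⟨c, hc⟩ := exists_unit_of_ne_zero h huu
    have hc0 : c ≠ 0 := fun h0 => by simp [h0] at hc
    have ha := on_hyperbolic h f hp hq hpq
    set a : Fin 3 → V := ![w • p + q, p + (w • p + q), c • u] with hadef
    have hon : IsON B a := by
      intro i j
      fin_cases i <;> fin_cases j
      all_goals first
        | simpa [hadef] using ha 0 0
        | simpa [hadef] using ha 0 1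
        | simpa [hadef] using ha 1 0
        | simpa [hadef] using ha 1 1
        | (simp [hadef, hup, huq, hpu, hqu]; done)
        | (rw [smul_self h] at hc; simp [hadef]; linear_combination hc)
    obtain ⟨e, he⟩ := exists_snoc h hon (by omega)
    have h3 : ∀ i : Fin 3, B (a i) e = 0 := fun i => by
      have := he i.castSucc (Fin.last 3)
      rwa [Fin.snoc_castSucc, Fin.snoc_last, if_neg (Fin.castSucc_lt_last i).ne] at this
    have hee : B e e = 1 := by
      have := he (Fin.last 3) (Fin.last 3)
      rwa [Fin.snoc_last, if_pos rfl] at this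
    have h0 : B (w • p + q) e = 0 := h3 0
    have h1 : B (p + (w • p + q)) e = 0 := h3 1
    have h2 : B (c • u) e = 0 := h3 2
    have hpe : B p e = 0 := by rwa [map_add, LinearMap.add_apply, h0, add_zero] at h1
    have hqe : B q e = 0 := by simpa [hpe] using h0
    have := hne (c • u + e) (by
      have h2' := (eq_zero_comm h).1 h2
      simp only [map_add, LinearMap.add_apply, hc, h2, h2', hee]
      linear_combination f.two)
      (by simp [hpu, hpe]) (by simp [hqu, hqe])
    have hue : B u e = 0 := by
      simpa [hc0] using h2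
    simp [hue, hc0, huu] at this

end Cfsg.Agent.FischerThm.PSULow
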