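import Cfsg.Agent.Classical.UnitaryGroup
import Cfsg.Agent.ThreeTrans.Param
import Cfsg.Agent.FischerThm.PSULow.Vec

/-!
# The points of the transvection class of PSU(n,2)

The class is indexed by isotropic vectors up to scalars; commutation is orthogonality and
conjugation is the transvection acting on vectors.
-/

set_option autoImplicit false

open Cfsg
open Cfsg.Agent.Classical.Herm
open Cfsg.Agent.Classical (hermB hermB_isHerm suEquiv suEquiv_apply exists_powHom)

namespace Cfsg.Agent.FischerThm.PSULow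

open Matrix Module

variable {F : Type} [Field F] [Fintype F] {σ : F →+* F} {w : F} {n : ℕ}

/-- The class of transvection images. -/
def transClass (n : ℕ) (F : Type) [Field F] : Set (Cfsg.PSU n F 2) :=
  (QuotientGroup.mk : ↥(Cfsg.SU n F 2) → Cfsg.PSU n F 2) ''
    {g : ↥(Cfsg.SU n F 2) |
      (((g : Matrix.SpecialLinearGroup (Fin n) F) : Matrix (Fin n) (Fin n) F) - 1).rank = 1}

/-- The field with four elements. -/
theorem exists_four (hF : Fintype.card F = 4) :
    ∃ (σ : F →+* F) (w : F), (∀ x, σ x = x ^ 2) ∧ IsInvol σ ∧ Four σ w := by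
  classical
  obtain ⟨σ, hσq, hσ, -, -⟩ := exists_powHom (q := 2) (hF.trans (by norm_num))
  have h3 : ∀ a : F, a ≠ 0 → a * a * a = 1 := fun a ha => by
    have := FiniteField.pow_card_sub_one_eq_one a ha
    rw [hF] at this
    linear_combination this
  have h2 : (2 : F) = 0 := by
    have := h3 (-1) (by simp)
    linear_combination -this
  obtain ⟨w, hw⟩ : ∃ w : F, w ∉ ({0, 1} : Finset F) := by
    by_contra hc
    push Not at hc
    have := Finset.card_le_card (fun x _ => hc x : (Finset.univ : Finset F) ⊆ {0, 1})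
    rw [Finset.card_univ, hF] at this
    exact absurd (this.trans Finset.card_le_two) (by norm_num)
  simp only [Finset.mem_insert, Finset.mem_singleton, not_or] at hw
  have hsq : w * w = w + 1 := by
    have h : (w - 1) * (w * w + w + 1) = 0 := by linear_combination h3 w hw.1
    have := (mul_eq_zero.1 h).resolve_left (sub_ne_zero.2 hw.2)
    linear_combination this - (w + 1) * h2
  refine ⟨σ, w, hσq, hσ, h2, hsq, by rw [hσq, pow_two, hsq], fun a ha => ?_, fun a ha => ?_⟩
  · rw [hσq, pow_two, ← mul_assoc, h3 a ha]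
  · by_cases h1 : a = 1
    · exact Or.inl h1
    have h : (a - 1) * ((a - w) * (a - (w + 1))) = 0 := by
      linear_combination h3 a ha - (a - 1) * a * (w + 1) * h2 + (a - 1) * hsq + (a - 1) * w * h2
    rcases mul_eq_zero.1 ((mul_eq_zero.1 h).resolve_left (sub_ne_zero.2 h1)) with h | h
    · exact Or.inr (Or.inl (sub_eq_zero.1 h))
    · exact Or.inr (Or.inr (sub_eq_zero.1 h))

variable (hσq : ∀ x, σ x = x ^ 2) (hσ : IsInvol σ) (f : Four σ w)

omit [Fintype F] in
include f in
theorem one_skew : (1 : F) + σ 1 = 0 := by rw [map_one]; linear_combination f.two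

/-- The transvection of an isotropic vector in the special unitary group. -/
noncomputable def tr {v : Fin n → F} (hv : hermB n σ v v = 0) : ↥(Cfsg.SU n F 2) :=
  (suEquiv n hσq).symm ⟨tvU hv 1, tvU_mem (hermB_isHerm hσ n) hv (one_skew f)⟩

open scoped _root_.Classical in
/-- The transvection image of an isotropic vector. -/
noncomputable def pt (v : Fin n → F) : Cfsg.PSU n F 2 :=
  if hv : hermB n σ v v = 0 then QuotientGroup.mk (tr hσq hσ f hv) else 1

theorem pt_eq {v : Fin n → F} (hv : hermB n σ v v = 0) :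
    pt hσq hσ f v = QuotientGroup.mk (tr hσq hσ f hv) := by
  rw [pt, dif_pos hv]

theorem suEquiv_tr {v : Fin n → F} (hv : hermB n σ v v = 0) :
    ((suEquiv n hσq) (tr hσq hσ f hv)).1 = tvU hv 1 := by
  rw [tr, MulEquiv.apply_symm_apply]

theorem pt_mem {v : Fin n → F} (hv0 : v ≠ 0) (hv : hermB n σ v v = 0) :
    pt hσq hσ f v ∈ transClass n F := by
  rw [pt_eq hσq hσ f hv]
  refine ⟨_, ?_, rfl⟩
  refine ThreeTrans.rank_of_oneDir (v := v) (φ := hermB n σ v) hv0 ?_ fun x => ?_
  · exact exists_pairing (hermB_isHerm hσ n) hv0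
  · rw [← suEquiv_apply hσq, suEquiv_tr, tvU_apply, one_mul]

theorem exists_pt {e : Cfsg.PSU n F 2} (he : e ∈ transClass n F) :
    ∃ v : Fin n → F, v ≠ 0 ∧ hermB n σ v v = 0 ∧ pt hσq hσ f v = e := by
  obtain ⟨A, hA, rfl⟩ := he
  have hB := hermB_isHerm hσ n
  obtain ⟨v, φ, hv0, ⟨x₀, hx₀⟩, hdir⟩ := ThreeTrans.exists_oneDir_of_rank hA
  set g := ((suEquiv n hσq) A).1 with hg
  have happ : ∀ x, g x = x + φ x • v := fun x => by rw [hg, suEquiv_apply]; exact hdir x
  have hiso : ∀ x y, σ (φ x) * hermB n σ v y + φ y * hermB n σ x v +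
      σ (φ x) * φ y * hermB n σ v v = 0 := fun x y => by
    have := ((suEquiv n hσq) A).2.1 x y
    rw [← hg, happ, happ] at this
    simp only [map_add, LinearMap.add_apply, LinearMap.map_smulₛₗ, RingHom.id_apply,
      LinearMap.smul_apply, smul_eq_mul] at this
    linear_combination this
  have hφv : φ v = 0 := by
    have hM : ((A : Matrix.SpecialLinearGroup (Fin n) F) : Matrix (Fin n) (Fin n) F) =
        1 + replicateCol Unit v * replicateRow Unit fun j => φ (Pi.single j 1) := by
      refine Matrix.ext_of_mulVec_single fun j => ?_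
      rw [hdir, Matrix.add_mulVec, Matrix.one_mulVec, ← Matrix.mulVec_mulVec]
      congr 1
      ext i
      simp [Matrix.mulVec, dotProduct, mul_comm]
      left
      simp [Pi.single_apply]
    have hdet := (A : Matrix.SpecialLinearGroup (Fin n) F).2
    rw [hM, Matrix.det_one_add_replicateCol_mul_replicateRow] at hdet
    have hsum : φ v = (fun j => φ (Pi.single j 1)) ⬝ᵥ v := by
      conv_lhs => rw [pi_eq_sum_univ v, map_sum]
      refine Finset.sum_congr rfl fun j _ => ?_
      rw [map_smul, smul_eq_mul, mul_comm]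
      congr 2
      ext i
      simp [Pi.single_apply, eq_comm]
    linear_combination hsum + hdet
  have hvv : hermB n σ v v = 0 := by
    have := hiso v x₀
    rwa [hφv, map_zero, zero_mul, zero_mul, zero_add, zero_mul, add_zero, hx₀, one_mul] at this
  obtain ⟨y, hy⟩ := exists_pairing hB hv0
  have hy' : hermB n σ y v = 1 := by rw [← hB.symm, hy, map_one]
  have hlin : ∀ z, φ z = σ (φ y) * hermB n σ v z := fun z => by
    have := hiso y z
    rw [hy', hvv] at this
    linear_combination this - σ (φ y) * hermB n σ v z * f.two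
  have hk : φ y = 1 := by
    have h1 : φ y = σ (φ y) := by simpa [hy] using hlin y
    have h0 : φ y ≠ 0 := fun h0 => by
      have := hlin x₀
      rw [h0, map_zero, zero_mul, hx₀] at this
      exact one_ne_zero this
    rcases f.cases _ h0 with h | h | h
    · exact h
    all_goals
      rw [h] at h1
      simp only [map_add, map_one, f.conj] at h1
      exact absurd (by grind [f.two] : (1 : F) = 0) one_ne_zero
  refine ⟨v, hv0, hvv, ?_⟩
  rw [pt_eq hσq hσ f hvv]
  congr 1
  refine (suEquiv n hσq).injective (Subtype.ext (LinearEquiv.ext fun x => ?_))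
  rw [suEquiv_tr, tvU_apply, ← hg, happ, hlin x, hk, map_one]

/-- The image of a special isometry acts on the points as on the vectors. -/
theorem exists_conj_pt {g : (Fin n → F) ≃ₗ[F] (Fin n → F)} (hg : g ∈ suG (hermB n σ)) :
    ∃ k : Cfsg.PSU n F 2, ∀ v : Fin n → F, hermB n σ v v = 0 →
      k * pt hσq hσ f v * k⁻¹ = pt hσq hσ f (g v) := by
  refine ⟨QuotientGroup.mk ((suEquiv n hσq).symm ⟨g, hg⟩), fun v hv => ?_⟩
  rw [pt_eq hσq hσ f hv, pt_eq hσq hσ f (show hermB n σ (g v) (g v) = 0 by rw [hg.1, hv]),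
    ← QuotientGroup.mk_mul, ← QuotientGroup.mk_inv, ← QuotientGroup.mk_mul]
  congr 1
  refine (suEquiv n hσq).injective (Subtype.ext ?_)
  rw [map_mul, map_mul, map_inv, MulEquiv.apply_symm_apply, Subgroup.coe_mul, Subgroup.coe_mul,
    Subgroup.coe_inv, suEquiv_tr, suEquiv_tr, conj_tvU (hermB_isHerm hσ n) hg.1 hv]

theorem pt_smul {v : Fin n → F} (hv : hermB n σ v v = 0) {c : F} (hc : c ≠ 0) :
    pt hσq hσ f (c • v) = pt hσq hσ f v := by
  rw [pt_eq hσq hσ f hv, pt_eq hσq hσ f (show hermB n σ (c • v) (c • v) = 0 by simp [hv])]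
  congr 1
  refine (suEquiv n hσq).injective (Subtype.ext (LinearEquiv.ext fun x => ?_))
  rw [suEquiv_tr, suEquiv_tr, tvU_apply, tvU_apply]
  simp only [LinearMap.map_smulₛₗ, LinearMap.smul_apply, smul_eq_mul, smul_smul, one_mul]
  congr 2
  linear_combination hermB n σ v x * f.norm c hc

theorem pt_inj {u v : Fin n → F} (hu0 : u ≠ 0) (hu : hermB n σ u u = 0) (hv0 : v ≠ 0)
    (hv : hermB n σ v v = 0) (h : pt hσq hσ f u = pt hσq hσ f v) :
    ∃ c : F, c ≠ 0 ∧ v = c • u := by
  have hB := hermB_isHerm hσ n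
  by_contra hcon
  push Not at hcon
  have hnv : ∀ c : F, v ≠ c • u := fun c hc => by
    refine hcon c ?_ hc
    rintro rfl
    exact hv0 (by rw [hc, zero_smul])
  rw [pt_eq hσq hσ f hu, pt_eq hσq hσ f hv, QuotientGroup.eq] at h
  -- the quotient maps every isotropic line to itself
  have hz : ∀ s, s ≠ 0 → hermB n σ s s = 0 →
      ∃ k : F, (tvU hu 1).symm (tvU hv 1 s) = k • s := by
    intro s hs0 hs
    set z := (suEquiv n hσq) ((tr hσq hσ f hu)⁻¹ * tr hσq hσ f hv) with hzdef
    have hzc : z * ⟨tvU hs 1, tvU_mem hB hs (one_skew f)⟩ =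
        ⟨tvU hs 1, tvU_mem hB hs (one_skew f)⟩ * z := by
      rw [hzdef, ← (suEquiv n hσq).apply_symm_apply ⟨tvU hs 1, tvU_mem hB hs (one_skew f)⟩,
        ← map_mul, ← map_mul, Subgroup.mem_center_iff.1 h]
    have hzv : z.1 = (tvU hu 1)⁻¹ * tvU hv 1 := by
      rw [hzdef, map_mul, map_inv, Subgroup.coe_mul, Subgroup.coe_inv, suEquiv_tr, suEquiv_tr]
    have h1 : z.1 * tvU hs 1 * z.1⁻¹ = tvU hs 1 := by
      rw [show z.1 * tvU hs 1 = tvU hs 1 * z.1 from congrArg Subtype.val hzc, mul_inv_cancel_right]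
    rw [conj_tvU hB z.2.1 hs] at h1
    have hzs0 : z.1 s ≠ 0 := fun h0 => hs0 (z.1.injective (h0.trans z.1.map_zero.symm))
    obtain ⟨y, hy⟩ := exists_pairing hB hzs0
    have h2 := congrArg (fun t : (Fin n → F) ≃ₗ[F] (Fin n → F) => t y) h1
    simp only [tvU_apply, one_mul, hy, one_smul] at h2
    refine ⟨hermB n σ s y, ?_⟩
    rw [← add_left_cancel h2, hzv]
    rfl
  -- on `u`
  obtain ⟨k, hk⟩ := hz u hu0 hu
  have hsymm : ∀ x, (tvU hu 1).symm x = x + hermB n σ u x • u := fun x => by
    rw [LinearEquiv.symm_apply_eq, tvU_apply]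
    simp [hu]
    match_scalars <;> grind [f.two]
  simp only [hsymm, tvU_apply, one_mul] at hk
  have hvu : hermB n σ v u = 0 := by
    by_contra hne
    refine hnv ((hermB n σ v u)⁻¹ * (k - 1 - hermB n σ v u * hermB n σ u v)) ?_
    rw [mul_smul, eq_inv_smul_iff₀ hne]
    simp [hu] at hk
    linear_combination (norm := module) hk
  have huv : hermB n σ u v = 0 := (eq_zero_comm hB).1 hvu
  -- on an isotropic partner of `u`
  obtain ⟨s, hss, hus⟩ := exists_hyp_partner hB hu0 hu
  obtain ⟨k, hk⟩ := hz s (fun h0 => by simp [h0] at hus) hss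
  simp only [hsymm, tvU_apply, one_mul] at hk
  have hk1 : k = 1 := by
    have := congrArg (hermB n σ u) hk
    simp [hu, huv, hus] at this
    exact this.symm
  simp [huv, hus, hk1] at hk
  rcases eq_or_ne (hermB n σ v s) 0 with hvs | hvs
  · simp [hvs] at hk
    exact hu0 hk
  · refine hnv (-(hermB n σ v s)⁻¹) ?_
    rw [neg_smul, ← smul_neg, eq_inv_smul_iff₀ hvs]
    linear_combination (norm := module) hk

theorem pt_conj {u v : Fin n → F} (hu : hermB n σ u u = 0) (hv : hermB n σ v v = 0) :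
    pt hσq hσ f u * pt hσq hσ f v * pt hσq hσ f u =
      pt hσq hσ f (v + hermB n σ u v • u) := by
  have happ : tvU hu 1 v = v + hermB n σ u v • u := by rw [tvU_apply, one_mul]
  have hv' : hermB n σ (tvU hu 1 v) (tvU hu 1 v) = 0 := by
    rw [tvU_isometry (hermB_isHerm hσ n) hu (one_skew f), hv]
  rw [← happ, pt_eq hσq hσ f hu, pt_eq hσq hσ f hv, pt_eq hσq hσ f hv', ← QuotientGroup.mk_mul,
    ← QuotientGroup.mk_mul]
  congr 1
  refine (suEquiv n hσq).injective (Subtype.ext ?_)
  rw [map_mul, map_mul, Subgroup.coe_mul, Subgroup.coe_mul, suEquiv_tr, suEquiv_tr, suEquiv_tr]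
  conv_rhs => rw [← conj_tvU (hermB_isHerm hσ n) (tvU_isometry (hermB_isHerm hσ n) hu (one_skew f)) hv]
  congr 1
  refine eq_inv_of_mul_eq_one_left (LinearEquiv.ext fun x => ?_)
  simp [tvU_apply, hu]
  match_scalars <;> grind [f.two]

theorem pt_mul_self {u : Fin n → F} (hu : hermB n σ u u = 0) :
    pt hσq hσ f u * pt hσq hσ f u = 1 := by
  rw [pt_eq hσq hσ f hu, ← QuotientGroup.mk_mul, show tr hσq hσ f hu * tr hσq hσ f hu = 1 from ?_,
    QuotientGroup.mk_one]
  refine (suEquiv n hσq).injective (Subtype.ext (LinearEquiv.ext fun x => ?_))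
  rw [map_mul, map_one, Subgroup.coe_mul, suEquiv_tr]
  simp [tvU_apply, hu]
  match_scalars <;> grind [f.two]

theorem pt_commute {u v : Fin n → F} (hu0 : u ≠ 0) (hu : hermB n σ u u = 0) (hv0 : v ≠ 0)
    (hv : hermB n σ v v = 0) :
    Commute (pt hσq hσ f u) (pt hσq hσ f v) ↔ hermB n σ u v = 0 := by
  have hB := hermB_isHerm hσ n
  constructor
  · intro h
    have hv' : hermB n σ (v + hermB n σ u v • u) (v + hermB n σ u v • u) = 0 := by
      have := tvU_isometry hB hu (one_skew f) v v
      rw [tvU_apply, one_mul, hv] at this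
      exact this
    have hne : v + hermB n σ u v • u ≠ 0 := fun h0 => by
      have h2 := congrArg (hermB n σ u) h0
      simp [hu] at h2
      simp [h2] at h0
      exact hv0 h0
    have heq := pt_conj hσq hσ f hu hv
    rw [h.eq, mul_assoc, pt_mul_self hσq hσ f hu, mul_one] at heq
    obtain ⟨c, hc, hcv⟩ := pt_inj hσq hσ f hv0 hv hne hv' heq
    have h1 := congrArg (hermB n σ u) hcv
    simp [hu] at h1
    by_contra hne'
    have hc1 : c = 1 := mul_right_cancel₀ hne' (by rw [one_mul]; exact h1.symm)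
    rw [hc1, one_smul, add_eq_left] at hcv
    exact hne' ((smul_eq_zero.1 hcv).resolve_right hu0)
  · intro h
    have heq := pt_conj hσq hσ f hu hv
    rw [h, zero_smul, add_zero] at heq
    show pt hσq hσ f u * pt hσq hσ f v = pt hσq hσ f v * pt hσq hσ f u
    calc pt hσq hσ f u * pt hσq hσ f v
        = pt hσq hσ f u * pt hσq hσ f v * (pt hσq hσ f u * pt hσq hσ f u) := by
          rw [pt_mul_self hσq hσ f hu, mul_one]
      _ = pt hσq hσ f v * pt hσq hσ f u := by rw [← mul_assoc, heq]

end Cfsg.Agent.FischerThm.PSULow
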