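import Cfsg.Agent.FischerThm.Local.Chart
import Cfsg.Agent.FischerThm.PSULow.Frame
import Cfsg.Agent.FischerThm.PSULow.Model

/-!
# The vectors of the common partners, and PSU(n,2) as the group below

In a chart by isotropic vectors the common partners of `d` and `c` give a set of vectors with the
sectioning property of `IsSec`; an isometry fixing a member and keeping the part orthogonal to it
keeps the whole set.
-/

set_option autoImplicit false

open Cfsg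
open Cfsg.Agent.Classical.Herm
open Cfsg.Agent.Classical (hermB hermB_isHerm)
open Cfsg.Agent.ThreeTrans (dperp commute_conj)

namespace Cfsg.Agent.FischerThm.PSULow

open Module

variable {G : Type*} [Group G] {D : Set G} {a b c d x y z : G} {n : ℕ}
  {F : Type} [Field F] [Fintype F] {σ : F →+* F} {w : F}
  (hσq : ∀ x, σ x = x ^ 2) (hσ : IsInvol σ) (f : Four σ w)
  {φ : G → Cfsg.PSU n F 2}

/-- The vectors whose transvection images are those of common partners. -/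
def vecSet (D : Set G) (d c : G) (φ : G → Cfsg.PSU n F 2) : Set (Fin n → F) :=
  {v | v ≠ 0 ∧ hermB n σ v v = 0 ∧ ∃ u ∈ common D d c, φ u = pt hσq hσ f v}

section Pair

variable (C : Chart D a (transClass n F) φ) {vx : Fin n → F} (hx : x ∈ dperp D a)
  (hx0 : vx ≠ 0) (hxx : hermB n σ vx vx = 0) (hφx : φ x = pt hσq hσ f vx)
include C hx hx0 hxx hφx

theorem perp_of {r : Fin n → F} (hr0 : r ≠ 0) (hr : hermB n σ r r = 0)
    (hz : z ∈ dperp D a ∩ dperp D x) (hφz : φ z = pt hσq hσ f r) :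
    hermB n σ vx r = 0 ∧ ∀ k : F, r ≠ k • vx := by
  refine ⟨(pt_commute hσq hσ f hx0 hxx hr0 hr).1 ?_, fun k hk => hz.2.2.1 ?_⟩
  · rw [← hφx, ← hφz]
    exact (C.comm x hx z hz.1).2 hz.2.2.2
  · refine C.inj hz.1 hx ?_
    rw [hφz, hk, pt_smul hσq hσ f hxx (fun h0 => hr0 (by rw [hk, h0, zero_smul])), hφx]

theorem exists_over {r : Fin n → F} (hr : hermB n σ r r = 0) (hxr : hermB n σ vx r = 0)
    (hne : ∀ k : F, r ≠ k • vx) : ∃ z ∈ dperp D a ∩ dperp D x, φ z = pt hσq hσ f r := by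
  have hr0 : r ≠ 0 := fun h0 => hne 0 (by rw [h0, zero_smul])
  obtain ⟨z, hz, hφz⟩ := C.exists_eq (pt_mem hσq hσ f hr0 hr)
  refine ⟨z, ⟨hz, hz.1, fun hzx => ?_, ?_⟩, hφz⟩
  · obtain ⟨k, -, hk⟩ := pt_inj hσq hσ f hx0 hxx hr0 hr (by rw [← hφx, ← hφz, hzx])
    exact hne k hk
  · refine (C.comm x hx z hz).1 ?_
    rw [hφx, hφz]
    exact (pt_commute hσq hσ f hx0 hxx hr0 hr).2 hxr

/-- Equal commutation inside the joint partners means lying on one line through `vx`. -/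
theorem same_perp_iff {z' : G} {r r' : Fin n → F} (hz : z ∈ dperp D a ∩ dperp D x)
    (hz' : z' ∈ dperp D a ∩ dperp D x) (hr0 : r ≠ 0) (hr : hermB n σ r r = 0) (hr0' : r' ≠ 0)
    (hr' : hermB n σ r' r' = 0) (hφz : φ z = pt hσq hσ f r) (hφz' : φ z' = pt hσq hσ f r') :
    (∀ t ∈ dperp D a ∩ dperp D x, Commute z t ↔ Commute z' t) ↔
      ∃ α β : F, r' = α • r + β • vx := by
  have hB := hermB_isHerm hσ n
  obtain ⟨hxr, hne⟩ := perp_of hσq hσ f C hx hx0 hxx hφx hr0 hr hz hφz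
  obtain ⟨hxr', hne'⟩ := perp_of hσq hσ f C hx hx0 hxx hφx hr0' hr' hz' hφz'
  have hcomm : ∀ t ∈ dperp D a ∩ dperp D x, ∀ s, s ≠ 0 → hermB n σ s s = 0 →
      φ t = pt hσq hσ f s →
      ((Commute z t ↔ hermB n σ r s = 0) ∧ (Commute z' t ↔ hermB n σ r' s = 0)) := by
    intro t ht s hs0 hs hφt
    rw [← C.comm z hz.1 t ht.1, ← C.comm z' hz'.1 t ht.1, hφz, hφz', hφt]
    exact ⟨pt_commute hσq hσ f hr0 hr hs0 hs, pt_commute hσq hσ f hr0' hr' hs0 hs⟩
  constructor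
  · intro hall
    refine mem_line_of_perp hB hr hxr hr' hxr' fun s hs hxs hrs => ?_
    by_cases hk : ∃ k : F, s = k • vx
    · obtain ⟨k, rfl⟩ := hk
      simp [(eq_zero_comm hB).1 hxr']
    push Not at hk
    obtain ⟨t, ht, hφt⟩ := exists_over hσq hσ f C hx hx0 hxx hφx hs hxs hk
    obtain ⟨h1, h2⟩ := hcomm t ht s (fun h0 => hk 0 (by rw [h0, zero_smul])) hs hφt
    exact h2.1 ((hall t ht).1 (h1.2 hrs))
  · rintro ⟨α, β, hαβ⟩ t ht
    have hα : α ≠ 0 := fun h0 => hne' β (by rw [hαβ, h0, zero_smul, zero_add])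
    obtain ⟨s, hs0, hs, hφt⟩ := exists_pt hσq hσ f (C.mem ht.1)
    obtain ⟨h1, h2⟩ := hcomm t ht s hs0 hs hφt.symm
    obtain ⟨hxs, -⟩ := perp_of hσq hσ f C hx hx0 hxx hφx hs0 hs ht hφt.symm
    rw [h1, h2, hαβ]
    simp [hxs, hα]

end Pair

variable [Finite G] (S : Step D d) (C : Chart D d (transClass n F) φ) (hc : c ∈ aside D d)
include S C hc

include hσq hσ f in
omit hc in
/-- Some noncommuting pair has a common partner. -/
theorem exists_common_pair : ∃ c ∈ aside D d, (common D d c).Nonempty := by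
  obtain ⟨x, hx⟩ := S.exists_dperp S.mem
  obtain ⟨g, hg⟩ := ThreeTrans.class_isConj S.cls hx.1 S.mem
  have C' := C.moveTo (ThreeTrans.class_conj S.cls) hg
  have hdx : d ∈ dperp D x := ⟨S.mem, Ne.symm hx.2.1, hx.2.2.symm⟩
  obtain ⟨p, hp0, hp, hφp⟩ := exists_pt hσq hσ f (C'.mem hdx)
  obtain ⟨q, hq, hpq⟩ := exists_hyp_partner (hermB_isHerm hσ n) hp0 hp
  have hq0 : q ≠ 0 := fun h0 => by simp [h0] at hpq
  obtain ⟨c, hc, hφc⟩ := C'.exists_eq (pt_mem hσq hσ f hq0 hq)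
  have hcd : ¬ Commute d c := fun h => by
    have := (C'.comm d hdx c hc).2 h
    rw [← hφp, hφc, pt_commute hσq hσ f hp0 hp hq0 hq, hpq] at this
    exact one_ne_zero this
  exact ⟨c, ⟨hc.1, hcd⟩, x, hx, hx.1, Ne.symm hc.2.1, hc.2.2.symm⟩

omit [Finite G] in
/-- At a common partner: its chart with the vectors of `d` and `c` forming a hyperbolic pair. -/
theorem exists_local (hx : x ∈ common D d c) :
    ∃ (θ : G → Cfsg.PSU n F 2) (p q : Fin n → F), Chart D x (transClass n F) θ ∧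
      d ∈ dperp D x ∧ c ∈ dperp D x ∧ p ≠ 0 ∧ hermB n σ p p = 0 ∧ θ d = pt hσq hσ f p ∧
      q ≠ 0 ∧ hermB n σ q q = 0 ∧ θ c = pt hσq hσ f q ∧ hermB n σ p q = 1 := by
  obtain ⟨g, hg⟩ := ThreeTrans.class_isConj S.cls hx.1.1 S.mem
  have C' := C.moveTo (ThreeTrans.class_conj S.cls) hg
  have hdx : d ∈ dperp D x := ⟨S.mem, Ne.symm hx.1.2.1, hx.1.2.2.symm⟩
  have hcx : c ∈ dperp D x := ⟨hc.1, Ne.symm hx.2.2.1, hx.2.2.2.symm⟩
  obtain ⟨p, hp0, hp, hφp⟩ := exists_pt hσq hσ f (C'.mem hdx)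
  obtain ⟨q, hq0, hq, hφq⟩ := exists_pt hσq hσ f (C'.mem hcx)
  have hne : hermB n σ p q ≠ 0 := fun h0 => hc.2 <| (C'.comm d hdx c hcx).1 (by
    rw [← hφp, ← hφq]; exact (pt_commute hσq hσ f hp0 hp hq0 hq).2 h0)
  refine ⟨_, p, (hermB n σ p q)⁻¹ • q, C', hdx, hcx, hp0, hp, hφp.symm,
    smul_ne_zero (inv_ne_zero hne) hq0, by simp [hq], ?_, by simp [hne]⟩
  rw [pt_smul hσq hσ f hq (inv_ne_zero hne), hφq]

/-- The vectors of the common partners have the sectioning property. -/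
theorem isSec_vecSet : IsSec (hermB n σ) (vecSet hσq hσ f D d c φ) := by
  have hB := hermB_isHerm hσ n
  refine ⟨fun v hv => ⟨hv.1, hv.2.1⟩, ?_, ?_, ?_⟩
  · rintro v ⟨hv0, hv, u, hu, hφu⟩ k hk
    exact ⟨smul_ne_zero hk hv0, by simp [hv], u, hu, by rw [pt_smul hσq hσ f hv hk, hφu]⟩
  · rintro u ⟨hu0, hu, z, hz, hφz⟩ v ⟨hv0, hv, z', hz', hφz'⟩ huv
    have hiso : hermB n σ (u + v) (u + v) = 0 := by
      have hvu : hermB n σ v u = 1 := by rw [← hB.symm, huv, map_one]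
      simp [hu, hv, huv, hvu]
      linear_combination f.two
    refine ⟨fun h0 => ?_, hiso, z * z' * z, common_closed S.group d c z hz z' hz', ?_⟩
    · rw [eq_neg_of_add_eq_zero_left h0] at huv
      simp [hv] at huv
    · rw [C.conj z hz.1 z' hz'.1, hφz, hφz', pt_conj hσq hσ f hu hv, huv, one_smul, add_comm]
  rintro vx ⟨hx0, hxx, x, hx, hφx⟩ r hr hxr hne
  obtain ⟨θ, p, q, C', hdx, hcx, hp0, hp, hθp, hq0, hq, hθq, hpq⟩ :=
    exists_local hσq hσ f S C hc hx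
  obtain ⟨z, hz, hφz⟩ := exists_over hσq hσ f C hx.1 hx0 hxx hφx hr hxr hne
  have hr0 : r ≠ 0 := fun h0 => hne 0 (by rw [h0, zero_smul])
  have hqp : hermB n σ q p = 1 := by rw [← hB.symm, hpq, map_one]
  have hswap : ∀ t, t ∈ dperp D x ∩ dperp D d ↔ t ∈ dperp D d ∩ dperp D x := fun t => and_comm
  obtain ⟨s, hs0, hs, hθz⟩ := exists_pt hσq hσ f (C'.mem hz.2)
  obtain ⟨hps, hsne⟩ :=
    perp_of hσq hσ f C' hdx hp0 hp hθp hs0 hs ((hswap z).2 hz) hθz.symm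
  -- a member over `r + γ vx` is common with `c` exactly when its vector is orthogonal to `q`
  have hlink : ∀ z' ∈ dperp D d ∩ dperp D x, ∀ r' s', r' ≠ 0 → hermB n σ r' r' = 0 →
      s' ≠ 0 → hermB n σ s' s' = 0 → φ z' = pt hσq hσ f r' → θ z' = pt hσq hσ f s' →
      ((∃ α β : F, r' = α • r + β • vx) ↔ ∃ α β : F, s' = α • s + β • p) := by
    intro z' hz' r' s' hr0' hr' hs0' hs' h1 h2
    rw [← same_perp_iff hσq hσ f C hx.1 hx0 hxx hφx hz hz' hr0 hr hr0' hr' hφz h1,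
      ← same_perp_iff hσq hσ f C' hdx hp0 hp hθp ((hswap z).2 hz) ((hswap z').2 hz') hs0 hs hs0'
        hs' hθz.symm h2]
    simp only [hswap]
  have hcommon : ∀ z' ∈ dperp D d ∩ dperp D x, ∀ s', s' ≠ 0 → hermB n σ s' s' = 0 →
      θ z' = pt hσq hσ f s' → hermB n σ p s' = 0 →
      (z' ∈ common D d c ↔ hermB n σ q s' = 0) := by
    intro z' hz' s' hs0' hs' h2 hps'
    rw [mem_common, ← pt_commute hσq hσ f hq0 hq hs0' hs', ← hθq, ← h2,
      C'.comm c hcx z' hz'.2]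
    refine ⟨fun h => h.2.2.2, fun h => ⟨hz'.1, hz'.1.1, fun he => ?_, h⟩⟩
    exact hc.2 (he ▸ hz'.1.2.2)
  obtain ⟨s', hs'⟩ : ∃ s', s' = s - hermB n σ q s • p := ⟨_, rfl⟩
  have hps' : hermB n σ p s' = 0 := by simp [hs', hp, hps]
  have hqs' : hermB n σ q s' = 0 := by simp [hs', hqp]
  have hss' : hermB n σ s' s' = 0 := by
    simp [hs', hp, hs, hps, (eq_zero_comm hB).1 hps]
  have hsne' : ∀ k : F, s' ≠ k • p := fun k hk =>
    hsne (k + hermB n σ q s) (by rw [add_smul, ← hk, hs', sub_add_cancel])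
  have hs0' : s' ≠ 0 := fun h0 => hsne' 0 (by rw [h0, zero_smul])
  obtain ⟨z', hz', hθz'⟩ := exists_over hσq hσ f C' hdx hp0 hp hθp hss' hps' hsne'
  rw [hswap] at hz'
  obtain ⟨r', hr0', hr', hφz'⟩ := exists_pt hσq hσ f (C.mem hz'.1)
  obtain ⟨α, β, hαβ⟩ := (hlink z' hz' r' s' hr0' hr' hs0' hss' hφz'.symm hθz').2
    ⟨1, -hermB n σ q s, by rw [one_smul, neg_smul, ← sub_eq_add_neg, hs']⟩
  have hα : α ≠ 0 := fun h0 =>
    (perp_of hσq hσ f C hx.1 hx0 hxx hφx hr0' hr' hz' hφz'.symm).2 β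
      (by rw [hαβ, h0, zero_smul, zero_add])
  have hxr2 : hermB n σ r vx = 0 := (eq_zero_comm hB).1 hxr
  have hok : ∀ γ : F, r + γ • vx ≠ 0 ∧ hermB n σ (r + γ • vx) (r + γ • vx) = 0 := fun γ =>
    ⟨fun h0 => hne (-γ) (by rw [neg_smul]; exact eq_neg_of_add_eq_zero_left h0),
      by simp [hr, hxx, hxr, hxr2]⟩
  refine ⟨α⁻¹ * β, ⟨(hok _).1, (hok _).2, z', (hcommon z' hz' s' hs0' hss' hθz' hps').2 hqs', ?_⟩,
    fun γ hγ => ?_⟩
  · rw [← pt_smul hσq hσ f (hok _).2 hα, smul_add, smul_smul, mul_inv_cancel_left₀ hα, ← hαβ,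
      hφz']
  -- uniqueness
  obtain ⟨-, -, z₁, hz₁, hφz₁⟩ := hγ
  have hz₁x : z₁ ∈ dperp D d ∩ dperp D x := by
    refine ⟨hz₁.1, hz₁.1.1, fun he => ?_, (C.comm x hx.1 z₁ hz₁.1).1 ?_⟩
    · rw [he, hφx] at hφz₁
      obtain ⟨k, -, hk⟩ := pt_inj hσq hσ f hx0 hxx (hok γ).1 (hok γ).2 hφz₁
      exact hne (k - γ) (by rw [sub_smul, ← hk, add_sub_cancel_right])
    · rw [hφx, hφz₁, pt_commute hσq hσ f hx0 hxx (hok γ).1 (hok γ).2]
      simp [hxr, hxx]
  obtain ⟨s₁, hs0₁, hs₁, hθz₁⟩ := exists_pt hσq hσ f (C'.mem hz₁x.2)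
  obtain ⟨hps₁, -⟩ :=
    perp_of hσq hσ f C' hdx hp0 hp hθp hs0₁ hs₁ ((hswap z₁).2 hz₁x) hθz₁.symm
  have hqs₁ := (hcommon z₁ hz₁x s₁ hs0₁ hs₁ hθz₁.symm hps₁).1 hz₁
  obtain ⟨u, v, huv⟩ := (hlink z₁ hz₁x _ s₁ (hok γ).1 (hok γ).2 hs0₁ hs₁ hφz₁ hθz₁.symm).1
    ⟨1, γ, by rw [one_smul]⟩
  have hs1' : s₁ = u • s' := by
    have hv : v = -(u * hermB n σ q s) := by
      rw [huv] at hqs₁
      simp [hqp] at hqs₁
      linear_combination hqs₁
    rw [huv, hv, hs']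
    module
  have hu : u ≠ 0 := fun h0 => hs0₁ (by rw [hs1', h0, zero_smul])
  have hzz : z₁ = z' := by
    refine C'.inj hz₁x.2 hz'.2 ?_
    rw [← hθz₁, hs1', pt_smul hσq hσ f hss' hu, hθz']
  rw [hzz, ← hφz'] at hφz₁
  obtain ⟨k, -, hk⟩ := pt_inj hσq hσ f hr0' hr' (hok γ).1 (hok γ).2 hφz₁
  rw [hαβ, smul_add, smul_smul, smul_smul] at hk
  have hka : k * α = 1 := by
    by_contra hcon
    have h1 : (1 - k * α) • r = (k * β - γ) • vx := by
      linear_combination (norm := module) hk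
    refine hne ((1 - k * α)⁻¹ * (k * β - γ)) ?_
    rw [mul_smul, ← h1, inv_smul_smul₀ (sub_ne_zero.2 (Ne.symm hcon))]
  rw [hka, one_smul, add_right_inj] at hk
  rw [smul_left_injective F hx0 hk, show k = α⁻¹ from eq_inv_of_mul_eq_one_left hka]

omit [Fintype F] [Finite G] C hc in
/-- Every element of PSU(n,2) is induced by an element centralising `d`. -/
theorem exists_lift (e : LowBar D d ≃* Cfsg.PSU n F 2) (hφ : φ = e ∘ bar D d)
    (k : Cfsg.PSU n F 2) :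
    ∃ g : G, Commute g d ∧ ∀ z ∈ dperp D d,
      g * z * g⁻¹ ∈ dperp D d ∧ φ (g * z * g⁻¹) = k * φ z * k⁻¹ := by
  obtain ⟨g, hg⟩ := QuotientGroup.mk_surjective (e.symm k)
  refine ⟨g, (ThreeTrans.commute_of_mem_H rfl g.2).symm, fun z hz =>
    ⟨ThreeTrans.dperp_conj_H S.group rfl g.2 hz, ?_⟩⟩
  have hzH : z ∈ lowGroup D d := Subgroup.subset_closure hz
  have h1 : bar D d ((g : G) * z * (g : G)⁻¹) = e.symm k * bar D d z * (e.symm k)⁻¹ := by
    rw [bar_mk hzH, bar_mk (mul_mem (mul_mem g.2 hzH) (inv_mem g.2)), ← hg, ← QuotientGroup.mk_mul,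
      ← QuotientGroup.mk_inv, ← QuotientGroup.mk_mul]
    rfl
  simp [hφ, h1]

omit [Finite G] C hc in
theorem common_flip_subset : common D d c ⊆ common D d (d * c * d) := by
  intro z hz
  refine ⟨hz.1, hz.1.1, fun he => ?_, ?_⟩
  · have hdz : d * z * d = z := by
      rw [← hz.1.2.2.eq.symm]
      rw [mul_assoc, ThreeTrans.mul_self S.set S.mem, mul_one]
    have hd2 := ThreeTrans.mul_self S.set S.mem
    have : d * z * d = c := by
      rw [he, show d * (d * c * d) * d = d * d * c * (d * d) by group, hd2, one_mul, mul_one]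
    exact hz.2.2.1 (hdz.symm.trans this)
  · exact ((hz.1.2.2.symm.mul_right hz.2.2.2.symm).mul_right hz.1.2.2.symm).symm

/-- An isometry fixing a member and keeping what is orthogonal to it keeps the whole set. -/
theorem invariant (hn : 4 ≤ n) (e : LowBar D d ≃* Cfsg.PSU n F 2) (hφ : φ = e ∘ bar D d)
    {vx : Fin n → F} (hvx : vx ∈ vecSet hσq hσ f D d c φ)
    {g : (Fin n → F) ≃ₗ[F] (Fin n → F)} (hg : g ∈ suG (hermB n σ)) (hgx : g vx = vx)
    (hpres : ∀ v ∈ vecSet hσq hσ f D d c φ, hermB n σ vx v = 0 →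
      g v ∈ vecSet hσq hσ f D d c φ) :
    ∀ v ∈ vecSet hσq hσ f D d c φ, g v ∈ vecSet hσq hσ f D d c φ := by
  have hB := hermB_isHerm hσ n
  obtain ⟨hx0, hxx, x, hx, hφx⟩ := hvx
  obtain ⟨k, hk⟩ := exists_conj_pt hσq hσ f hg
  obtain ⟨j, hjd, hj⟩ := exists_lift S e hφ k
  have hjd' : j * d * j⁻¹ = d := by rw [hjd.eq, mul_inv_cancel_right]
  have hjx : j * x * j⁻¹ = x := C.inj (hj x hx.1).1 hx.1 (by
    rw [(hj x hx.1).2, hφx, hk vx hxx, hgx])
  have hmap : ∀ z : G, z ∈ common D d c → j * z * j⁻¹ ∈ common D d (j * c * j⁻¹) := fun z hz =>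
    ⟨(hj z hz.1).1, ThreeTrans.dperp_conj (ThreeTrans.class_conj S.cls) j hz.2⟩
  -- the part inside the partners of `x` is kept
  set T := common D d c ∩ dperp D x with hT
  have hTmap : ∀ z ∈ T, j * z * j⁻¹ ∈ T := by
    rintro z ⟨hz, hzx⟩
    obtain ⟨v, hv0, hv, hφv⟩ := exists_pt hσq hσ f (C.mem hz.1)
    obtain ⟨hxv, -⟩ := perp_of hσq hσ f C hx.1 hx0 hxx hφx hv0 hv ⟨hz.1, hzx⟩ hφv.symm
    obtain ⟨hgv0, hgv, u, hu, hφu⟩ := hpres v ⟨hv0, hv, z, hz, hφv.symm⟩ hxv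
    have : j * z * j⁻¹ = u := C.inj (hj z hz.1).1 hu.1 (by
      rw [(hj z hz.1).2, ← hφv, hk v hv, hφu])
    refine ⟨this ▸ hu, ?_⟩
    rw [← hjx]
    exact ThreeTrans.dperp_conj (ThreeTrans.class_conj S.cls) j hzx
  have hTeq : (fun z => j * z * j⁻¹) '' T = T := Set.eq_of_subset_of_ncard_le
    (by rintro - ⟨z, hz, rfl⟩; exact hTmap z hz)
    (by rw [Set.ncard_image_of_injective _ fun u v h => mul_left_cancel (mul_right_cancel h)])
    (Set.toFinite _)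
  obtain ⟨θ, p, q, C', hdx, hcx, hp0, hp, hθp, hq0, hq, hθq, hpq⟩ :=
    exists_local hσq hσ f S C hc hx
  have hc2x : j * c * j⁻¹ ∈ dperp D x := by
    rw [← hjx]
    exact ThreeTrans.dperp_conj (ThreeTrans.class_conj S.cls) j hcx
  have hc2d : ¬ Commute d (j * c * j⁻¹) := fun h =>
    hc.2 ((commute_conj j d c).1 (by rwa [hjd']))
  obtain ⟨q', hq0', hq', hθq'⟩ := exists_pt hσq hσ f (C'.mem hc2x)
  have hall : ∀ t, t ≠ 0 → hermB n σ t t = 0 → hermB n σ p t = 0 → hermB n σ q t = 0 →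
      hermB n σ q' t = 0 := by
    intro t ht0 ht hpt hqt
    obtain ⟨z, hz, hθz⟩ := exists_over hσq hσ f C' hdx hp0 hp hθp ht hpt fun k hk => by
      subst hk
      have hqp : hermB n σ q p = 1 := by rw [← hB.symm, hpq, map_one]
      rw [map_smul, hqp, smul_eq_mul, mul_one] at hqt
      exact ht0 (by rw [hqt, zero_smul])
    have hzT : z ∈ T := by
      refine ⟨⟨hz.2, hz.1.1, fun he => ?_, ?_⟩, hz.1⟩
      · exact hc.2 (he ▸ hz.2.2.2)
      · refine (C'.comm c hcx z hz.1).1 ?_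
        rw [hθq, hθz]
        exact (pt_commute hσq hσ f hq0 hq ht0 ht).2 hqt
    rw [← hTeq] at hzT
    obtain ⟨z0, hz0, rfl⟩ := hzT
    refine (pt_commute hσq hσ f hq0' hq' ht0 ht).1 ?_
    rw [hθq', ← hθz, C'.comm _ hc2x _ hz.1]
    exact (hmap z0 hz0.1).2.2.2
  obtain ⟨α, β, hab⟩ :=
    mem_plane_of_perp hB f (by rwa [Module.finrank_fin_fun]) hp hq hpq hall
  have hqp : hermB n σ q p = 1 := by rw [← hB.symm, hpq, map_one]
  have hβ : β ≠ 0 := fun h0 => hc2d <| (C'.comm d hdx _ hc2x).1 (by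
    rw [hθp, ← hθq', pt_commute hσq hσ f hp0 hp hq0' hq', hab, h0]
    simp [hp])
  have hcase : j * c * j⁻¹ = c ∨ j * c * j⁻¹ = d * c * d := by
    have hdcd : d * c * d ∈ dperp D x :=
      dperp_closed S.group x d hdx c hcx
    have hnorm : (β⁻¹ * α) + σ (β⁻¹ * α) = 0 := by
      have h1 : hermB n σ (β⁻¹ • q') (β⁻¹ • q') = 0 := by simp [hq']
      rw [show β⁻¹ • q' = (β⁻¹ * α) • p + q by
        rw [hab, smul_add, smul_smul, smul_smul, inv_mul_cancel₀ hβ, one_smul]] at h1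
      simp only [map_add, LinearMap.add_apply, LinearMap.map_smulₛₗ, LinearMap.smul_apply,
        RingHom.id_apply, smul_eq_mul, hp, hq, hpq, hqp] at h1
      linear_combination h1
    have hqq : θ (j * c * j⁻¹) = pt hσq hσ f ((β⁻¹ * α) • p + q) := by
      rw [← hθq', ← pt_smul hσq hσ f hq' (inv_ne_zero hβ), hab, smul_add, smul_smul, smul_smul,
        inv_mul_cancel₀ hβ, one_smul]
    by_cases ha : β⁻¹ * α = 0
    · left
      refine C'.inj hc2x hcx ?_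
      rw [hqq, ha, zero_smul, zero_add, hθq]
    · right
      refine C'.inj hc2x hdcd ?_
      have ha1 : β⁻¹ * α = 1 := by
        rcases f.cases _ ha with h | h | h
        · exact h
        all_goals
          rw [h] at hnorm
          simp only [map_add, map_one, f.conj] at hnorm
          exact absurd (by grind [f.two] : (1 : F) = 0) one_ne_zero
      rw [hqq, ha1, one_smul, C'.conj d hdx c hcx, hθp, hθq, pt_conj hσq hσ f hp hq, hpq, one_smul,
        add_comm]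
  rintro v ⟨hv0, hv, z, hz, hφz⟩
  refine ⟨fun h0 => hv0 (g.injective (h0.trans g.map_zero.symm)), by rw [hg.1, hv],
    j * z * j⁻¹, ?_, by rw [(hj z hz.1).2, hφz, hk v hv]⟩
  have h1 := hmap z hz
  rcases hcase with h | h
  · rwa [h] at h1
  · rw [h] at h1
    have := common_flip_subset S h1
    rwa [show d * (d * c * d) * d = d * d * c * (d * d) by group,
      ThreeTrans.mul_self S.set S.mem, one_mul, mul_one] at this

end Cfsg.Agent.FischerThm.PSULow
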