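import Cfsg.Agent.FischerThm.Cases
import Cfsg.Agent.FischerThm.PSULow.Local

/-!
# PSU(5,2) and PSU(n,2), n ≥ 7, do not occur below
-/

set_option autoImplicit false

open Cfsg
open Cfsg.Agent.Classical.Herm
open Cfsg.Agent.Classical (hermB hermB_isHerm)

namespace Cfsg.Agent.FischerThm.PSULow

open Module

universe u

variable {G : Type u} [Group G] [Finite G] {D : Set G} {d : G} {n : ℕ}

/-- The smaller class in a chart by isotropic vectors, with a member of some set of vectors. -/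
theorem setup (S : Step D d) (h : PSUAt (lowSet D d) n) :
    ∃ (F : Type) (_ : Field F) (_ : Fintype F) (σ : F →+* F) (w : F) (hσq : ∀ x, σ x = x ^ 2)
      (hσ : IsInvol σ) (f : Four σ w) (e : LowBar D d ≃* Cfsg.PSU n F 2) (c : G) (x : Fin n → F),
      c ∈ aside D d ∧ Chart D d (transClass n F) (e ∘ bar D d) ∧
        x ∈ vecSet hσq hσ f D d c (e ∘ bar D d) := by
  obtain ⟨F, hFf, hFt, hF, e, he⟩ := h
  obtain ⟨σ, w, hσq, hσ, f⟩ := exists_four hF
  have C : Chart D d (transClass n F) (e ∘ bar D d) := S.chart_of_equiv e he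
  obtain ⟨c, hc, x, hx⟩ := exists_common_pair hσq hσ f S C
  obtain ⟨v, hv0, hv, hφv⟩ := exists_pt hσq hσ f (C.mem hx.1)
  exact ⟨F, hFf, hFt, σ, w, hσq, hσ, f, e, c, v, hc, C, hv0, hv, x, hx, hφv.symm⟩

/-- `PSU(n, 2)`, `n ≥ 7`, does not occur below. -/
theorem psuLarge (S : Step D d) (hn : 7 ≤ n) (h : PSUAt (lowSet D d) n) : False := by
  obtain ⟨F, hFf, hFt, σ, w, hσq, hσ, f, e, c, x, hc, C, hx⟩ := setup S h
  have hB := hermB_isHerm hσ n
  obtain ⟨v, hv, hxv, -⟩ := exists_frame hB f hx.1 hx.2.1 (k := n - 2)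
    (by rw [Module.finrank_fin_fun]; omega)
  exact large_false hB f (isSec_vecSet hσq hσ f S C hc)
    (e := fun i => v (Fin.castLE (by omega) i))
    (fun i j => by rw [hv]; simp [Fin.ext_iff]) (fun i => hxv _) hx

/-- `PSU(5, 2)` does not occur below. -/
theorem psuFive (S : Step D d) (h : PSUAt (lowSet D d) 5) : False := by
  obtain ⟨F, hFf, hFt, σ, w, hσq, hσ, f, e, c, x, hc, C, hx⟩ := setup S h
  have hB := hermB_isHerm hσ 5
  have hdim : finrank F (Fin 5 → F) = 5 := Module.finrank_fin_fun F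
  obtain ⟨v, hv, hxv, hspan⟩ := exists_frame hB f hx.1 hx.2.1 (k := 3) (by rw [hdim])
  refine five_false hB f (isSec_vecSet hσq hσ f S C hc) hv hxv hx hspan (fun e' he' => ?_)
    fun g hg hgx hp => invariant hσq hσ f S C hc (by norm_num) e rfl hx hg hgx hp
  obtain ⟨c', hc'⟩ := exists_snoc hB he' (by omega)
  refine ⟨c', ?_, fun i => ?_⟩
  · have := hc' (Fin.last 3) (Fin.last 3)
    rwa [Fin.snoc_last, if_pos rfl] at this
  · have := hc' i.castSucc (Fin.last 3)
    rwa [Fin.snoc_castSucc, Fin.snoc_last, if_neg (Fin.castSucc_lt_last i).ne] at this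

end Cfsg.Agent.FischerThm.PSULow

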